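import Cfsg.Agent.Lib.PresSL2.OddCore

/-!
# The presentations of `SL₂(F)` and `PSL₂(F)` in odd characteristic
-/

set_option autoImplicit false

namespace Cfsg.Agent.Lib.PresSL2.OddFinal

open Polynomial Cfsg.Agent.Lib.PresSL2.Words Cfsg.Agent.Lib.PresSL2.Bruhat
  Cfsg.Agent.Lib.PresSL2.Target Cfsg.Agent.Lib.PresSL2.Comm Cfsg.Agent.Lib.GL2.SL2
  Cfsg.Agent.Lib.PresSL2.OddCore Cfsg.Agent.Lib.PresSL2.FieldFacts

open scoped commutatorElement

variable {F : Type*} [Field F]

/-- The half order of a generator. -/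
lemma exists_half [Finite F] (t : F) (ht0 : t ≠ 0) (ht : ∀ x : F, x ≠ 0 → ∃ j : ℕ, t ^ j = x)
    (h2 : (2 : F) ≠ 0) :
    ∃ n : ℕ, t ^ n = -1 ∧ ∀ j : ℤ, t ^ (2 * j) = 1 → (n : ℤ) ∣ j := by
  set T : Fˣ := Units.mk0 t ht0 with hT
  have hNpos : 0 < orderOf T := orderOf_pos T
  have hT1 : ∀ k : ℕ, (T ^ k : Fˣ) = 1 ↔ t ^ k = 1 := by
    intro k
    rw [← Units.val_inj]
    simp [hT]
  have hm1 : (-1 : F) ≠ 1 := by
    intro h
    apply h2
    have : (2 : F) = 1 - (-1) := by ring
    rw [this, h, sub_self]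
  obtain ⟨j0, hj0⟩ := ht (-1) (neg_ne_zero.2 one_ne_zero)
  have heven : Even (orderOf T) := by
    by_contra hodd
    rw [Nat.not_even_iff_odd] at hodd
    have h1 : orderOf T ∣ 2 * j0 := by
      rw [orderOf_dvd_iff_pow_eq_one, hT1, pow_mul', hj0]
      ring
    have h3 : orderOf T ∣ j0 := (Nat.Coprime.dvd_of_dvd_mul_left
      (Nat.coprime_two_right.2 hodd) h1)
    rw [orderOf_dvd_iff_pow_eq_one, hT1, hj0] at h3
    exact hm1 h3
  obtain ⟨n, hn⟩ := heven
  have hn2 : orderOf T = 2 * n := by omega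
  refine ⟨n, ?_, ?_⟩
  · have h3 : t ^ n * t ^ n = 1 := by
      rw [← pow_add, ← hn, ← hT1]
      exact pow_orderOf_eq_one T
    rcases mul_self_eq_one_iff.1 h3 with h4 | h4
    · exfalso
      rw [← hT1] at h4
      have := orderOf_dvd_of_pow_eq_one h4
      have h5 := Nat.le_of_dvd (by omega) this
      omega
    · exact h4
  · intro j hj
    have h1 : (T ^ (2 * j) : Fˣ) = 1 := by
      rw [← Units.val_inj]
      simpa [hT] using hj
    have h3 := orderOf_dvd_iff_zpow_eq_one.2 h1
    rw [hn2] at h3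
    push_cast at h3
    exact (mul_dvd_mul_iff_left (by norm_num : (2 : ℤ) ≠ 0)).1 h3

/-- In a presented group, a relator word holds. -/
lemma word_one (R : Set (FreeGroup (Fin 3))) {p : ℕ} (M : ℤ) (g : (ZMod p)[X])
    (hg : wordOf (vn gU (gH ^ M)) g ∈ R) :
    wordOf (vn (PresentedGroup.mk R gU) (PresentedGroup.mk R gH ^ M)) g = 1 := by
  have h1 := PresentedGroup.one_of_mem hg
  rw [map_wordOf] at h1
  rw [← h1]
  congr 1

lemma map_vz {G G' : Type*} [Group G] [Group G'] (π : G →* G') (u h : G) (k : ℤ) :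
    π (vz u h k) = vz (π u) (π h) k := by
  simp [vz]

/-- The values of the conjugates in `SL₂`. -/
lemma vz_target (t : F) (ht : t ≠ 0) (k : ℤ) :
    vz (uu (1 : F)) (diagS t ht) k = uu (t ^ (2 * k)) := by
  rw [vz, zpow_neg, diagS_zpow, conj_uu, mul_one, mul_comm 2 k, zpow_mul, zpow_ofNat]

lemma uu_comm (x y : F) : Commute (uu x : SL2 F) (uu y) := by
  change _ = _
  rw [uu_mul, uu_mul, add_comm]

/-- Window commutation in a presented group. -/
lemma hcomm_window (R : Set (FreeGroup (Fin 3))) {p : ℕ} [Fact p.Prime] (g : (ZMod p)[X])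
    (hg : g.Monic) (hdeg : g.natDegree ≤ 5)
    (h1 : wordOf (vn gU (gH ^ (1 : ℤ))) g ∈ R)
    (c1 : ⁅vz gU (gH ^ (1 : ℤ)) 0, vz gU (gH ^ (1 : ℤ)) 1⁆ ∈ R)
    (c2 : ⁅vz gU (gH ^ (1 : ℤ)) 0, vz gU (gH ^ (1 : ℤ)) 2⁆ ∈ R) (j k : ℤ) :
    Commute (vz (PresentedGroup.mk R gU) (PresentedGroup.mk R gH ^ (1 : ℤ)) j)
      (vz (PresentedGroup.mk R gU) (PresentedGroup.mk R gH ^ (1 : ℤ)) k) := by
  have e := fun (i : ℤ) => map_vz (PresentedGroup.mk R) gU (gH ^ (1 : ℤ)) i
  simp only [map_zpow] at e
  refine comm_of_window hg hdeg (word_one R 1 g h1) ?_ ?_ j k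
  · have := PresentedGroup.one_of_mem c1
    rw [map_commutatorElement, e, e] at this
    exact commutatorElement_eq_one_iff_commute.1 this
  · have := PresentedGroup.one_of_mem c2
    rw [map_commutatorElement, e, e] at this
    exact commutatorElement_eq_one_iff_commute.1 this

/-- Trinomial commutation in a presented group. -/
lemma hcomm_perc (R : Set (FreeGroup (Fin 3))) (M M' : ℤ)
    (h1 : vz gU gH 0 * vz gU gH M * (vz gU gH M')⁻¹ ∈ R)
    (h2 : ⁅vz gU gH 0, vz gU gH M⁆ ∈ R) (j k : ℤ) :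
    Commute (vz (PresentedGroup.mk R gU) (PresentedGroup.mk R gH ^ M) j)
      (vz (PresentedGroup.mk R gU) (PresentedGroup.mk R gH ^ M) k) := by
  have e := fun (i : ℤ) => map_vz (PresentedGroup.mk R) gU gH i
  have e1 : vz (PresentedGroup.mk R gU) (PresentedGroup.mk R gH) 0 *
      vz (PresentedGroup.mk R gU) (PresentedGroup.mk R gH) M =
      vz (PresentedGroup.mk R gU) (PresentedGroup.mk R gH) M' := by
    have := PresentedGroup.one_of_mem h1
    rw [map_mul, map_mul, map_inv, e, e, e] at this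
    exact mul_inv_eq_one.1 this
  have e2 : Commute (vz (PresentedGroup.mk R gU) (PresentedGroup.mk R gH) 0)
      (vz (PresentedGroup.mk R gU) (PresentedGroup.mk R gH) M) := by
    have := PresentedGroup.one_of_mem h2
    rw [map_commutatorElement, e, e] at this
    exact commutatorElement_eq_one_iff_commute.1 this
  have e3 : ∀ i : ℤ, vz (PresentedGroup.mk R gU) (PresentedGroup.mk R gH ^ M) i =
      vz (PresentedGroup.mk R gU) (PresentedGroup.mk R gH) (M * i) := by
    intro i
    simp only [vz, zpow_mul, zpow_neg]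
  rw [e3, e3]
  apply comm_zero_iff
  have := comm_of_perc e1 e2 (k - j) 0
  unfold PP at this
  convert this using 2
  ring

/-- The main theorem in odd characteristic. -/
theorem odd_main [Finite F] {p : ℕ} [Fact p.Prime] [Algebra (ZMod p) F] (hp : 3 ≤ p)
    (h2 : (2 : F) ≠ 0) :
    (∃ rels : Finset (FreeGroup (Fin 3)), rels.card ≤ 9 ∧
      Nonempty (PresentedGroup (↑rels : Set (FreeGroup (Fin 3))) ≃*
        Matrix.SpecialLinearGroup (Fin 2) F)) ∧
    (∃ rels : Finset (FreeGroup (Fin 3)), rels.card ≤ 9 ∧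
      Nonempty (PresentedGroup (↑rels : Set (FreeGroup (Fin 3))) ≃*
        Matrix.ProjectiveSpecialLinearGroup (Fin 2) F)) := by
  classical
  obtain ⟨t, ht0, ht⟩ := exists_gen (F := F)
  obtain ⟨n, hn, hn'⟩ := exists_half t ht0 ht h2
  -- a general closing step, given the extra relators
  have close : ∀ (M : ℤ) (r : F) (_ : r = t ^ (2 * M))
      (_ : Function.Surjective (aeval r : (ZMod p)[X] →ₐ[ZMod p] F))
      (extra : List (FreeGroup (Fin 3))) (_ : extra.length ≤ 2)
      (_ : ∀ x ∈ extra, lt t ht0 x = 1)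
      (_ : ∀ (fT fT' fA : (ZMod p)[X]) (R : Set (FreeGroup (Fin 3))),
        (∀ x ∈ baseRels p M (minpoly (ZMod p) r) fT fT' fA gU gH gW, x ∈ R) →
        (∀ x ∈ extra, x ∈ R) → ∀ j k : ℤ,
          Commute (vz (PresentedGroup.mk R gU) (PresentedGroup.mk R gH ^ M) j)
            (vz (PresentedGroup.mk R gU) (PresentedGroup.mk R gH ^ M) k)),
      (∃ rels : Finset (FreeGroup (Fin 3)), rels.card ≤ 9 ∧
        Nonempty (PresentedGroup (↑rels : Set (FreeGroup (Fin 3))) ≃*
          Matrix.SpecialLinearGroup (Fin 2) F)) ∧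
      (∃ rels : Finset (FreeGroup (Fin 3)), rels.card ≤ 9 ∧
        Nonempty (PresentedGroup (↑rels : Set (FreeGroup (Fin 3))) ≃*
          Matrix.ProjectiveSpecialLinearGroup (Fin 2) F)) := by
    intro M r hr hsurj extra hlen hextra hcomm
    obtain ⟨fT, hfT⟩ := hsurj t
    obtain ⟨fT', hfT'⟩ := hsurj (-t⁻¹)
    obtain ⟨fA, hfA⟩ := hsurj (t ^ 2)
    have hbl : (baseRels p M (minpoly (ZMod p) r) fT fT' fA gU gH gW).length = 6 := rfl
    constructor
    · refine ⟨(baseRels p M (minpoly (ZMod p) r) fT fT' fA gU gH gW ++ extra).toFinset, ?_, ?_⟩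
      · refine (List.toFinset_card_le _).trans ?_
        rw [List.length_append, hbl]
        omega
      · refine odd_core_SL t ht0 ht M r hr hsurj fT fT' fA hfT hfT' hfA extra hextra _ ?_ ?_
        · intro x
          simp
        · apply hcomm fT fT' fA
          · intro x hx
            simp [hx]
          · intro x hx
            simp [hx]
    · refine ⟨(gH ^ n :: (baseRels p M (minpoly (ZMod p) r) fT fT' fA gU gH gW ++ extra)).toFinset,
        ?_, ?_⟩
      · refine (List.toFinset_card_le _).trans ?_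
        rw [List.length_cons, List.length_append, hbl]
        omega
      · refine odd_core_PSL t ht0 ht M r hr hsurj fT fT' fA hfT hfT' hfA n hn hn' extra hextra _
          ?_ ?_
        · intro x
          simp
        · apply hcomm fT fT' fA
          · intro x hx
            simp [hx]
          · intro x hx
            simp [hx]
  by_cases he : 6 ≤ Module.finrank (ZMod p) F
  · -- the trinomial case
    obtain ⟨r, x, y, hx, hy, hrx, hry, hsurj⟩ := exists_good_r h2 hp he
    obtain ⟨i, rfl⟩ := ht x hx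
    obtain ⟨i', rfl⟩ := ht y hy
    have hr1 : r = t ^ (2 * (i : ℤ)) := by
      rw [hrx, mul_comm, zpow_mul, zpow_natCast]
      norm_cast
    have hr2 : 1 + r = t ^ (2 * (i' : ℤ)) := by
      rw [hry, mul_comm, zpow_mul, zpow_natCast]
      norm_cast
    refine close i r hr1 hsurj
      [vz gU gH 0 * vz gU gH i * (vz gU gH i')⁻¹, ⁅vz gU gH 0, vz gU gH i⁆] (by simp) ?_ ?_
    · intro z hz
      simp only [List.mem_cons, List.not_mem_nil, or_false] at hz
      rcases hz with rfl | rfl
      · rw [map_mul, map_mul, map_inv, map_vz, map_vz, map_vz, lt_U, lt_H, vz_target, vz_target,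
          vz_target, ← hr1, ← hr2]
        rw [mul_inv_eq_one, uu_mul]
        simp
      · rw [map_commutatorElement, map_vz, map_vz, lt_U, lt_H, vz_target, vz_target]
        exact commutatorElement_eq_one_iff_commute.2 (uu_comm _ _)
    · intro fT fT' fA R _ hextra j k
      exact hcomm_perc R i i' (hextra _ (by simp)) (hextra _ (by simp)) j k
  · -- the window case
    have hsurj := surj_sq_odd (p := p) t ht h2
    have hr : t ^ 2 = t ^ (2 * (1 : ℤ)) := by
      rw [mul_one]
      norm_cast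
    refine close 1 (t ^ 2) hr hsurj
      [⁅vz gU (gH ^ (1 : ℤ)) 0, vz gU (gH ^ (1 : ℤ)) 1⁆,
        ⁅vz gU (gH ^ (1 : ℤ)) 0, vz gU (gH ^ (1 : ℤ)) 2⁆] (by simp) ?_ ?_
    · intro z hz
      have e : ∀ i : ℕ, lt t ht0 (vz gU (gH ^ (1 : ℤ)) i) = uu ((t ^ 2) ^ i) := by
        intro i
        rw [map_vz, map_zpow, lt_U, lt_H, vz_natCast, vn_target t ht0 1 (t ^ 2) hr]
      simp only [List.mem_cons, List.not_mem_nil, or_false] at hz
      rcases hz with rfl | rfl
      · have e0 := e 0
        have e1 := e 1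
        simp only [Nat.cast_zero, Nat.cast_one] at e0 e1
        rw [map_commutatorElement, e0, e1]
        exact commutatorElement_eq_one_iff_commute.2 (uu_comm _ _)
      · have e0 := e 0
        have e1 := e 2
        simp only [Nat.cast_zero, Nat.cast_ofNat] at e0 e1
        rw [map_commutatorElement, e0, e1]
        exact commutatorElement_eq_one_iff_commute.2 (uu_comm _ _)
    · intro fT fT' fA R hb hextra j k
      have hint : IsIntegral (ZMod p) (t ^ 2) := by
        haveI : Module.Finite (ZMod p) F := Module.Finite.of_finite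
        exact Algebra.IsIntegral.isIntegral _
      refine hcomm_window R (minpoly (ZMod p) (t ^ 2)) (minpoly.monic hint) ?_ (hb _ ?_)
        (hextra _ (by simp)) (hextra _ (by simp)) j k
      · haveI : Module.Finite (ZMod p) F := Module.Finite.of_finite
        have := minpoly.natDegree_le (A := ZMod p) (t ^ 2)
        omega
      · simp [baseRels]

end Cfsg.Agent.Lib.PresSL2.OddFinal
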