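import Cfsg.Agent.Lib.PresSL2.OddFinal

/-!
# The presentations of `SL₂(F) = PSL₂(F)` in characteristic 2
-/

set_option autoImplicit false

namespace Cfsg.Agent.Lib.PresSL2.TwoCore

open Polynomial Cfsg.Agent.Lib.PresSL2.Words Cfsg.Agent.Lib.PresSL2.Bruhat
  Cfsg.Agent.Lib.PresSL2.Target Cfsg.Agent.Lib.PresSL2.Comm Cfsg.Agent.Lib.GL2.SL2
  Cfsg.Agent.Lib.PresSL2.OddCore Cfsg.Agent.Lib.PresSL2.OddFinal
  Cfsg.Agent.Lib.PresSL2.FieldFacts

variable {F : Type*} [Field F]

/-- The relators. -/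
def rels2 {Γ : Type*} [Group Γ] (k : ℕ) (g : (ZMod 2)[X]) (U S1 S2 : Γ) : List Γ :=
  [U ^ 2, U * S1 * U * (S1 * U * S1)⁻¹, (S1 * S2) ^ k * S1 * (S2 * (S1 * S2) ^ k)⁻¹,
    wordOf (vn U (S1 * S2)) g]

lemma map_rels2 {Γ Γ' : Type*} [Group Γ] [Group Γ'] (π : Γ →* Γ') (k : ℕ) (g : (ZMod 2)[X])
    (U S1 S2 : Γ) : (rels2 k g U S1 S2).map π = rels2 k g (π U) (π S1) (π S2) := by
  have e : π (wordOf (vn U (S1 * S2)) g) = wordOf (vn (π U) (π S1 * π S2)) g := by
    rw [map_wordOf]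
    congr 1
    funext i
    rw [map_vn, map_mul]
  simp [rels2, e]

section Abstract

variable {Γ : Type*} [Group Γ] {U S1 S2 : Γ} {k : ℕ}

lemma S1_sq (e1 : U ^ 2 = 1) (e2 : U * S1 * U = S1 * U * S1) : S1 * S1 = 1 := by
  have hU : U * U = 1 := by rw [← sq, e1]
  have h1 : S1 = (U * S1) * U * (U * S1)⁻¹ := by
    rw [e2]
    group
  calc S1 * S1 = (U * S1) * U * (U * S1)⁻¹ * ((U * S1) * U * (U * S1)⁻¹) := by rw [← h1]
    _ = (U * S1) * (U * U) * (U * S1)⁻¹ := by group
    _ = 1 := by rw [hU]; group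

lemma S2_sq (h1 : S1 * S1 = 1) (e3 : (S1 * S2) ^ k * S1 = S2 * (S1 * S2) ^ k) : S2 * S2 = 1 := by
  have h2 : S2 = (S1 * S2) ^ k * S1 * ((S1 * S2) ^ k)⁻¹ := by
    rw [e3]
    group
  set A := (S1 * S2) ^ k with hA
  have h3 : S2 * S2 = A * (S1 * S1) * A⁻¹ := by
    calc S2 * S2 = (A * S1 * A⁻¹) * (A * S1 * A⁻¹) := by rw [← h2]
      _ = _ := by group
  rw [h3, h1]
  group

lemma wh2 (h1 : S1 * S1 = 1) (h2 : S2 * S2 = 1) : S1 * (S1 * S2) * S1⁻¹ = (S1 * S2)⁻¹ := by
  have e1 : S1⁻¹ = S1 := inv_eq_of_mul_eq_one_left h1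
  have e2 : S2⁻¹ = S2 := inv_eq_of_mul_eq_one_left h2
  rw [mul_inv_rev, e1, e2, ← mul_assoc, h1, one_mul]

lemma h_pow2 (h1 : S1 * S1 = 1) (h2 : S2 * S2 = 1)
    (e3 : (S1 * S2) ^ k * S1 = S2 * (S1 * S2) ^ k) : (S1 * S2) ^ (2 * k + 1) = 1 := by
  have e1 : S1⁻¹ = S1 := inv_eq_of_mul_eq_one_left h1
  have h3 : S1 * (S1 * S2) ^ k * S1⁻¹ = ((S1 * S2) ^ k)⁻¹ := by
    rw [← conj_pow, wh2 h1 h2, inv_pow]
  have h4 : S1 * ((S1 * S2) ^ k * S1) = (S1 * S2) * (S1 * S2) ^ k := by
    rw [e3]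
    group
  rw [e1] at h3
  have h5 : ((S1 * S2) ^ k)⁻¹ = (S1 * S2) * (S1 * S2) ^ k := by
    rw [← h3, ← h4]
    group
  have h6 : (S1 * S2) ^ k * ((S1 * S2) * (S1 * S2) ^ k) = 1 := by
    rw [← h5]
    group
  rw [show 2 * k + 1 = k + (1 + k) by ring, pow_add, pow_add, pow_one]
  exact h6

end Abstract

variable [Algebra (ZMod 2) F]

/-- The Bruhat hypotheses in characteristic 2. -/
theorem bhyp_two [Finite F] (hchar : (2 : F) = 0) {Γ : Type*} [Group Γ] (t : F) (ht0 : t ≠ 0)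
    (ht : ∀ x : F, x ≠ 0 → ∃ j : ℕ, t ^ j = x) (k : ℕ) (htN : t ^ (2 * k + 1) = 1)
    (hsurj : Function.Surjective (aeval (t ^ 2) : (ZMod 2)[X] →ₐ[ZMod 2] F))
    (U S1 S2 : Γ) (hgen : Subgroup.closure ({U, S1, S2} : Set Γ) = ⊤)
    (hrels : ∀ x ∈ rels2 k (minpoly (ZMod 2) (t ^ 2)) U S1 S2, x = 1)
    (hcomm : ∀ i j : ℤ, Commute (vz U (S1 * S2) i) (vz U (S1 * S2) j)) :
    ∃ W' : F → Γ, BHyp t W' (S1 * S2) S1 ∧
      ∀ f : (ZMod 2)[X], W' (aeval (t ^ 2) f) = wordOf (vn U (S1 * S2)) f := by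
  simp only [rels2, List.mem_cons, List.not_mem_nil, or_false, forall_eq_or_imp, forall_eq]
    at hrels
  obtain ⟨e1, e2, e3, e5⟩ := hrels
  replace e2 := mul_inv_eq_one.1 e2
  replace e3 := mul_inv_eq_one.1 e3
  have hS1 := S1_sq e1 e2
  have hS2 := S2_sq hS1 e3
  have hN := h_pow2 hS1 hS2 e3
  obtain ⟨W', hadd, hr', hword⟩ := exists_W U (S1 * S2) (t ^ 2) e1 hcomm hsurj e5
  have hW1 : W' 1 = U := by
    have := hword 1
    rw [map_one] at this
    rw [this, wordOf, prodL_succ]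
    simp [prodL, vn, ZMod.val_one]
  have hneg : (-1 : F) = 1 := by
    have : (2 : F) = 1 + 1 := by norm_num
    rw [this] at hchar
    exact neg_eq_of_add_eq_zero_left hchar
  have hB0 : BHyp0 t W' (S1 * S2) S1 :=
    { ht0 := ht0
      Wadd := hadd
      Wh := fun x => (hr' x).symm
      wh := wh2 hS1 hS2 }
  have hS1inv : S1⁻¹ = S1 := inv_eq_of_mul_eq_one_left hS1
  have hUinv : U⁻¹ = U := by
    apply inv_eq_of_mul_eq_one_left
    rw [← sq, e1]
  have R0 : S1 * W' 1 * S1⁻¹ = W' (-1) * S1 * W' (-1) := by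
    rw [hneg, hW1, hS1inv]
    exact e2.symm
  refine ⟨W', ?_, hword⟩
  refine
    { toBHyp0 := hB0
      ht := ht
      R0 := R0
      R1 := ?_
      gen := ?_ }
  · have h1 := hB0.rel_conj ((k : ℤ) + 1) 1 0 (by
      have e : -(1 : F)⁻¹ = -1 := by simp
      rw [e, zpow_zero, mul_one]
      exact R0)
    have h2 : t ^ (2 * ((k : ℤ) + 1)) * 1 = t := by
      rw [mul_one, show 2 * ((k : ℤ) + 1) = ((2 * k + 1 : ℕ) : ℤ) + 1 by push_cast; ring,
        zpow_add₀ ht0, zpow_natCast, htN, one_mul, zpow_one]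
    rw [h2] at h1
    rw [h1]
    congr 3
    rw [show (0 : ℤ) - 2 * ((k : ℤ) + 1) = -(((2 * k + 1 : ℕ) : ℤ) + 1) by push_cast; ring,
      zpow_neg, zpow_add, zpow_natCast, hN, one_mul, zpow_one]
  · rw [eq_top_iff, ← hgen, Subgroup.closure_le]
    intro x hx
    have hS1mem : S1 ∈ Subgroup.closure (Set.range W' ∪ {S1 * S2, S1}) :=
      Subgroup.subset_closure (Or.inr (Or.inr rfl))
    have hhmem : S1 * S2 ∈ Subgroup.closure (Set.range W' ∪ {S1 * S2, S1}) :=
      Subgroup.subset_closure (Or.inr (Or.inl rfl))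
    rcases hx with rfl | rfl | hx
    · rw [← hW1]
      exact Subgroup.subset_closure (Or.inl ⟨1, rfl⟩)
    · exact hS1mem
    · rw [Set.mem_singleton_iff] at hx
      rw [hx]
      have h4 := Subgroup.mul_mem _ (Subgroup.inv_mem _ hS1mem) hhmem
      rwa [inv_mul_cancel_left] at h4

/-- The generators of the free group. -/
abbrev gS1 : FreeGroup (Fin 3) := FreeGroup.of 1
/-- The generators of the free group. -/
abbrev gS2 : FreeGroup (Fin 3) := FreeGroup.of 2

/-- The target values. -/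
def tgt2 (t : F) (ht : t ≠ 0) : Fin 3 → SL2 F := ![uu 1, wM, wI * diagS t ht]

/-- The hom from the free group. -/
def lt2 (t : F) (ht : t ≠ 0) : FreeGroup (Fin 3) →* SL2 F := FreeGroup.lift (tgt2 t ht)

@[simp] lemma lt2_U (t : F) (ht : t ≠ 0) : lt2 t ht gU = uu 1 := by simp [lt2, tgt2]
@[simp] lemma lt2_S1 (t : F) (ht : t ≠ 0) : lt2 t ht gS1 = wM := by simp [lt2, tgt2]
@[simp] lemma lt2_S2 (t : F) (ht : t ≠ 0) : lt2 t ht gS2 = wI * diagS t ht := by simp [lt2, tgt2]

lemma lt2_h (t : F) (ht : t ≠ 0) : lt2 t ht (gS1 * gS2) = diagS t ht := by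
  rw [map_mul, lt2_S1, lt2_S2, ← mul_assoc, ← wM_inv, mul_inv_cancel, one_mul]

lemma word_target2 (t : F) (ht : t ≠ 0) (f : (ZMod 2)[X]) :
    wordOf (vn (uu (1 : F)) (diagS t ht)) f = uu (aeval (t ^ 2) f) := by
  have h1 := word_target t ht 1 (t ^ 2) (by rw [mul_one]; norm_cast) f
  rwa [zpow_one] at h1

/-- The relators hold in `SL₂`. -/
lemma rels2_target [Finite F] (hchar : (2 : F) = 0) (t : F) (ht0 : t ≠ 0) (k : ℕ)
    (htN : t ^ (2 * k + 1) = 1) :
    ∀ x ∈ rels2 k (minpoly (ZMod 2) (t ^ 2)) gU gS1 gS2, lt2 t ht0 x = 1 := by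
  intro x hx
  have h1 : lt2 t ht0 x ∈ (rels2 k (minpoly (ZMod 2) (t ^ 2)) gU gS1 gS2).map (lt2 t ht0) :=
    List.mem_map_of_mem hx
  have hneg : (-1 : F) = 1 := by
    have : (2 : F) = 1 + 1 := by norm_num
    rw [this] at hchar
    exact neg_eq_of_add_eq_zero_left hchar
  rw [map_rels2, lt2_U, lt2_S1, lt2_S2] at h1
  have e0 : wM * (wI * diagS t ht0) = diagS t ht0 := by
    rw [← mul_assoc, ← wM_inv, mul_inv_cancel, one_mul]
  simp only [rels2, e0, word_target2, List.mem_cons, List.not_mem_nil, or_false, minpoly.aeval,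
    uu_zero] at h1
  rcases h1 with h | h | h | h <;> rw [h]
  · rw [uu_pow]
    have : ((2 : ℕ) : F) = 0 := by exact_mod_cast hchar
    rw [this, zero_mul, uu_zero]
  · rw [mul_inv_eq_one]
    apply ext_sl <;> simp [mul_entries, hneg, one_add_one_eq_two, hchar]
  · rw [mul_inv_eq_one, diagS_pow]
    have hs : t ^ k ≠ 0 := pow_ne_zero k ht0
    have hs2 : (t ^ k)⁻¹ = t * t ^ k := by
      apply inv_eq_of_mul_eq_one_right
      rw [← htN]
      ring
    apply ext_sl <;> simp [mul_entries, hneg, hs2]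
    field_simp

/-- The general construction in a presented group. -/
theorem core_map2 [Finite F] (hchar : (2 : F) = 0) {G : Type*} [Group G] (π₀ : SL2 F →* G) (t : F)
    (ht0 : t ≠ 0) (ht : ∀ x : F, x ≠ 0 → ∃ j : ℕ, t ^ j = x) (k : ℕ)
    (htN : t ^ (2 * k + 1) = 1)
    (hsurj : Function.Surjective (aeval (t ^ 2) : (ZMod 2)[X] →ₐ[ZMod 2] F))
    (R : Set (FreeGroup (Fin 3)))
    (hbase : ∀ x ∈ rels2 k (minpoly (ZMod 2) (t ^ 2)) gU gS1 gS2, x ∈ R)
    (hR : ∀ x ∈ R, FreeGroup.lift (fun i => π₀ (tgt2 t ht0 i)) x = 1)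
    (hcomm : ∀ i j : ℤ,
      Commute (vz (PresentedGroup.mk R gU) (PresentedGroup.mk R gS1 * PresentedGroup.mk R gS2) i)
        (vz (PresentedGroup.mk R gU) (PresentedGroup.mk R gS1 * PresentedGroup.mk R gS2) j)) :
    ∃ W' : F → PresentedGroup R,
      BHyp t W' (PresentedGroup.mk R gS1 * PresentedGroup.mk R gS2) (PresentedGroup.mk R gS1) ∧
      (∀ x, PresentedGroup.toGroup hR (W' x) = π₀ (uu x)) ∧
      PresentedGroup.toGroup hR (PresentedGroup.mk R gS1 * PresentedGroup.mk R gS2) =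
        π₀ (diagS t ht0) ∧
      PresentedGroup.toGroup hR (PresentedGroup.mk R gS1) = π₀ wM := by
  have hgen : Subgroup.closure ({PresentedGroup.mk R gU, PresentedGroup.mk R gS1,
      PresentedGroup.mk R gS2} : Set (PresentedGroup R)) = ⊤ := by
    rw [eq_top_iff, ← PresentedGroup.closure_range_of, Subgroup.closure_le]
    rintro _ ⟨i, rfl⟩
    apply Subgroup.subset_closure
    fin_cases i
    · exact Or.inl rfl
    · exact Or.inr (Or.inl rfl)
    · exact Or.inr (Or.inr rfl)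
  have hrels : ∀ x ∈ rels2 k (minpoly (ZMod 2) (t ^ 2)) (PresentedGroup.mk R gU)
      (PresentedGroup.mk R gS1) (PresentedGroup.mk R gS2), x = 1 := by
    intro x hx
    rw [← map_rels2, List.mem_map] at hx
    obtain ⟨y, hy, rfl⟩ := hx
    exact PresentedGroup.one_of_mem (hbase y hy)
  obtain ⟨W', hB, hword⟩ := bhyp_two hchar t ht0 ht k htN hsurj _ _ _ hgen hrels hcomm
  have hU : PresentedGroup.toGroup hR (PresentedGroup.mk R gU) = π₀ (uu 1) := by
    exact PresentedGroup.toGroup.of hR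
  have hS1 : PresentedGroup.toGroup hR (PresentedGroup.mk R gS1) = π₀ wM := by
    exact PresentedGroup.toGroup.of hR
  have hS2 : PresentedGroup.toGroup hR (PresentedGroup.mk R gS2) = π₀ (wI * diagS t ht0) := by
    exact PresentedGroup.toGroup.of hR
  have hH : PresentedGroup.toGroup hR (PresentedGroup.mk R gS1 * PresentedGroup.mk R gS2) =
      π₀ (diagS t ht0) := by
    rw [map_mul, hS1, hS2, ← map_mul, ← mul_assoc, ← wM_inv, mul_inv_cancel, one_mul]
  refine ⟨W', hB, ?_, hH, hS1⟩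
  intro x
  obtain ⟨f, rfl⟩ := hsurj x
  rw [hword, map_wordOf, ← word_target2 t ht0, map_wordOf]
  congr 1
  funext i
  rw [map_vn, map_vn, hU, hH]

/-- The lift to `π₀ ∘ tgt2` factors. -/
lemma lift_comp2 {G : Type*} [Group G] (π₀ : SL2 F →* G) (t : F) (ht0 : t ≠ 0)
    (x : FreeGroup (Fin 3)) :
    FreeGroup.lift (fun i => π₀ (tgt2 t ht0 i)) x = π₀ (lt2 t ht0 x) := by
  have : FreeGroup.lift (fun i => π₀ (tgt2 t ht0 i)) = π₀.comp (lt2 t ht0) := by
    ext i
    simp [lt2]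
  rw [this]
  rfl

/-- An odd exponent of the generator. -/
lemma exists_odd_exp [Finite F] (hchar : (2 : F) = 0) (t : F) (ht0 : t ≠ 0) :
    ∃ k : ℕ, t ^ (2 * k + 1) = 1 := by
  set T : Fˣ := Units.mk0 t ht0 with hT
  have hNpos : 0 < orderOf T := orderOf_pos T
  have hT1 : ∀ k : ℕ, (T ^ k : Fˣ) = 1 ↔ t ^ k = 1 := by
    intro k
    rw [← Units.val_inj]
    simp [hT]
  have hodd : ¬ Even (orderOf T) := by
    rintro ⟨n, hn⟩
    have h3 : t ^ n * t ^ n = 1 := by
      rw [← pow_add, ← hn, ← hT1]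
      exact pow_orderOf_eq_one T
    have h4 : t ^ n = 1 := by
      have h5 : (t ^ n + 1) * (t ^ n + 1) = 0 := by
        have : (t ^ n + 1) * (t ^ n + 1) = t ^ n * t ^ n + 2 * t ^ n + 1 := by ring
        rw [this, h3, hchar, zero_mul, add_zero]
        rw [one_add_one_eq_two, hchar]
      have h6 := mul_self_eq_zero.1 h5
      have h7 : (2 : F) = 1 + 1 := by norm_num
      rw [h7] at hchar
      have h8 : t ^ n = - 1 := eq_neg_of_add_eq_zero_left h6
      rw [h8]
      exact neg_eq_of_add_eq_zero_left hchar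
    rw [← hT1] at h4
    have := orderOf_dvd_of_pow_eq_one h4
    have h5 := Nat.le_of_dvd (by omega) this
    omega
  rw [Nat.not_even_iff_odd] at hodd
  obtain ⟨k, hk⟩ := hodd
  refine ⟨k, ?_⟩
  rw [← hT1, ← hk]
  exact pow_orderOf_eq_one T

/-- Commutativity in the presented group, for the trinomial relator. -/
lemma hcomm_two (R : Set (FreeGroup (Fin 3))) (m' : ℤ)
    (hU : gU ^ 2 ∈ R)
    (h1 : vz gU (gS1 * gS2) 0 * vz gU (gS1 * gS2) 1 * (vz gU (gS1 * gS2) m')⁻¹ ∈ R) (i j : ℤ) :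
    Commute (vz (PresentedGroup.mk R gU) (PresentedGroup.mk R gS1 * PresentedGroup.mk R gS2) i)
      (vz (PresentedGroup.mk R gU) (PresentedGroup.mk R gS1 * PresentedGroup.mk R gS2) j) := by
  set u := PresentedGroup.mk R gU with hu
  set h := PresentedGroup.mk R gS1 * PresentedGroup.mk R gS2 with hh
  have e : ∀ n : ℤ, PresentedGroup.mk R (vz gU (gS1 * gS2) n) = vz u h n := by
    intro n
    rw [map_vz, map_mul]
  have e1 : vz u h 0 * vz u h 1 = vz u h m' := by
    have := PresentedGroup.one_of_mem h1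
    rw [map_mul, map_mul, map_inv, e, e, e] at this
    exact mul_inv_eq_one.1 this
  have hu2 : u ^ 2 = 1 := by
    have := PresentedGroup.one_of_mem hU
    rwa [map_pow] at this
  have hsq : ∀ n : ℤ, vz u h n * vz u h n = 1 := by
    intro n
    calc vz u h n * vz u h n = h ^ n * (u ^ 2) * h ^ (-n) := by
          simp only [vz, sq]
          group
      _ = 1 := by rw [hu2]; group
  have e2 : Commute (vz u h 0) (vz u h 1) := by
    have h3 : vz u h 0 * vz u h 1 * (vz u h 0 * vz u h 1) = 1 := by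
      rw [e1, hsq]
    have h4 := hsq 0
    have h5 := hsq 1
    have i0 : (vz u h 0)⁻¹ = vz u h 0 := inv_eq_of_mul_eq_one_left h4
    have i1 : (vz u h 1)⁻¹ = vz u h 1 := inv_eq_of_mul_eq_one_left h5
    have h6 : vz u h 0 * vz u h 1 = (vz u h 0 * vz u h 1)⁻¹ := eq_inv_of_mul_eq_one_left h3
    rw [mul_inv_rev, i0, i1] at h6
    exact h6
  apply comm_zero_iff
  have := comm_of_perc (m := 1) e1 e2 (j - i) 0
  unfold PP at this
  convert this using 2
  ring

/-- The main theorem in characteristic 2. -/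
theorem two_main [Finite F] (hchar : (2 : F) = 0) [CharP F 2] :
    ∃ rels : Finset (FreeGroup (Fin 3)), rels.card ≤ 5 ∧
      Nonempty (PresentedGroup (↑rels : Set (FreeGroup (Fin 3))) ≃*
        Matrix.SpecialLinearGroup (Fin 2) F) ∧
      Nonempty (PresentedGroup (↑rels : Set (FreeGroup (Fin 3))) ≃*
        Matrix.ProjectiveSpecialLinearGroup (Fin 2) F) := by
  classical
  obtain ⟨t, ht0, ht⟩ := exists_gen (F := F)
  have hsurj := surj_sq_two (p := 2) t ht
  have close : ∀ (k : ℕ) (_ : t ^ (2 * k + 1) = 1)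
      (extra : List (FreeGroup (Fin 3))) (_ : extra.length ≤ 1)
      (_ : ∀ x ∈ extra, lt2 t ht0 x = 1)
      (_ : ∀ (R : Set (FreeGroup (Fin 3))),
        (∀ x ∈ rels2 k (minpoly (ZMod 2) (t ^ 2)) gU gS1 gS2, x ∈ R) →
        (∀ x ∈ extra, x ∈ R) → ∀ i j : ℤ,
          Commute (vz (PresentedGroup.mk R gU)
              (PresentedGroup.mk R gS1 * PresentedGroup.mk R gS2) i)
            (vz (PresentedGroup.mk R gU) (PresentedGroup.mk R gS1 * PresentedGroup.mk R gS2) j)),
      ∃ rels : Finset (FreeGroup (Fin 3)), rels.card ≤ 5 ∧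
        Nonempty (PresentedGroup (↑rels : Set (FreeGroup (Fin 3))) ≃*
          Matrix.SpecialLinearGroup (Fin 2) F) ∧
        Nonempty (PresentedGroup (↑rels : Set (FreeGroup (Fin 3))) ≃*
          Matrix.ProjectiveSpecialLinearGroup (Fin 2) F) := by
    intro k htN extra hlen hextra hcomm
    set L := rels2 k (minpoly (ZMod 2) (t ^ 2)) gU gS1 gS2 ++ extra with hL
    have hmem : ∀ x ∈ L, lt2 t ht0 x = 1 := by
      intro x hx
      rw [hL, List.mem_append] at hx
      rcases hx with h | h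
      · exact rels2_target hchar t ht0 k htN x h
      · exact hextra x h
    have hbase : ∀ x ∈ rels2 k (minpoly (ZMod 2) (t ^ 2)) gU gS1 gS2,
        x ∈ ((L.toFinset : Finset (FreeGroup (Fin 3))) : Set (FreeGroup (Fin 3))) := by
      intro x hx
      simp [hL, hx]
    have hext : ∀ x ∈ extra,
        x ∈ ((L.toFinset : Finset (FreeGroup (Fin 3))) : Set (FreeGroup (Fin 3))) := by
      intro x hx
      simp [hL, hx]
    refine ⟨L.toFinset, ?_, ?_, ?_⟩
    · refine (List.toFinset_card_le _).trans ?_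
      rw [hL, List.length_append]
      have : (rels2 k (minpoly (ZMod 2) (t ^ 2)) gU gS1 gS2).length = 4 := rfl
      omega
    · have hR : ∀ x ∈ ((L.toFinset : Finset (FreeGroup (Fin 3))) : Set (FreeGroup (Fin 3))),
          FreeGroup.lift (fun i => (MonoidHom.id (SL2 F)) (tgt2 t ht0 i)) x = 1 := by
        intro x hx
        rw [lift_comp2, MonoidHom.id_apply]
        exact hmem x (by simpa using hx)
      obtain ⟨W', hB, h1, h2, h3⟩ := core_map2 hchar (MonoidHom.id (SL2 F)) t ht0 ht k htN hsurj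
        _ hbase hR (hcomm _ hbase hext)
      exact ⟨MulEquiv.ofBijective _ (bijective_SL hB _ h1 h2 h3)⟩
    · have hR : ∀ x ∈ ((L.toFinset : Finset (FreeGroup (Fin 3))) : Set (FreeGroup (Fin 3))),
          FreeGroup.lift (fun i => (mkP (F := F)) (tgt2 t ht0 i)) x = 1 := by
        intro x hx
        rw [lift_comp2, hmem x (by simpa using hx), map_one]
      obtain ⟨W', hB, h1, h2, h3⟩ := core_map2 hchar mkP t ht0 ht k htN hsurj
        _ hbase hR (hcomm _ hbase hext)
      refine ⟨MulEquiv.ofBijective _ (bijective_PSL hB _ h1 h2 h3 ?_)⟩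
      intro j hj
      apply hB.h_eq_one
      -- `x ^ 2 = 1 → x = 1` in characteristic 2
      have h4 : t ^ j * t ^ j = 1 := by
        rw [← zpow_add₀ ht0, ← two_mul]
        exact hj
      have h5 : (t ^ j + 1) * (t ^ j + 1) = 0 := by
        have : (t ^ j + 1) * (t ^ j + 1) = t ^ j * t ^ j + 2 * t ^ j + 1 := by ring
        rw [this, h4, hchar, zero_mul, add_zero, one_add_one_eq_two, hchar]
      have h6 := mul_self_eq_zero.1 h5
      have h7 : (2 : F) = 1 + 1 := by norm_num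
      have h8 : t ^ j = - 1 := eq_neg_of_add_eq_zero_left h6
      rw [h8]
      rw [h7] at hchar
      exact neg_eq_of_add_eq_zero_left hchar
  by_cases ha : t ^ 2 = 1
  · -- the field of two elements
    have ht1 : t = 1 := by
      have h5 : (t + 1) * (t + 1) = 0 := by
        have : (t + 1) * (t + 1) = t ^ 2 + 2 * t + 1 := by ring
        rw [this, ha, hchar, zero_mul, add_zero, one_add_one_eq_two, hchar]
      have h6 := mul_self_eq_zero.1 h5
      have h7 : (2 : F) = 1 + 1 := by norm_num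
      have h8 : t = - 1 := eq_neg_of_add_eq_zero_left h6
      rw [h8]
      rw [h7] at hchar
      exact neg_eq_of_add_eq_zero_left hchar
    refine close 0 (by simp [ht1]) [] (by simp) (by simp) ?_
    intro R hb _ i j
    have hone : PresentedGroup.mk R gS1 * PresentedGroup.mk R gS2 = 1 := by
      have hU : PresentedGroup.mk R gU ^ 2 = 1 := by
        have := PresentedGroup.one_of_mem (hb (gU ^ 2) (by simp [rels2]))
        rwa [map_pow] at this
      have h2 : PresentedGroup.mk R gU * PresentedGroup.mk R gS1 * PresentedGroup.mk R gU =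
          PresentedGroup.mk R gS1 * PresentedGroup.mk R gU * PresentedGroup.mk R gS1 := by
        have := PresentedGroup.one_of_mem (hb (gU * gS1 * gU * (gS1 * gU * gS1)⁻¹) (by simp [rels2]))
        simp only [map_mul, map_inv] at this
        exact mul_inv_eq_one.1 this
      have h3 : PresentedGroup.mk R gS1 = PresentedGroup.mk R gS2 := by
        have := PresentedGroup.one_of_mem
          (hb ((gS1 * gS2) ^ 0 * gS1 * (gS2 * (gS1 * gS2) ^ 0)⁻¹) (by simp [rels2]))
        simp only [pow_zero, one_mul, mul_one, map_mul, map_inv] at this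
        exact mul_inv_eq_one.1 this
      rw [← h3]
      exact S1_sq hU h2
    rw [hone]
    simp [vz]
  · -- `1 + t²` is a power of `t²`
    have h1a : 1 + t ^ 2 ≠ 0 := by
      intro h0
      apply ha
      have h7 : (2 : F) = 1 + 1 := by norm_num
      rw [h7] at hchar
      have : t ^ 2 = -1 := eq_neg_of_add_eq_zero_right h0
      rw [this]
      exact neg_eq_of_add_eq_zero_left hchar
    obtain ⟨y, hy⟩ := FiniteField.isSquare_of_char_two (F := F) (ringChar.eq F 2) (1 + t ^ 2)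
    have hy0 : y ≠ 0 := by
      rintro rfl
      apply h1a
      rw [hy]
      ring
    obtain ⟨m', hm'⟩ := ht y hy0
    have hm'2 : 1 + t ^ 2 = t ^ (2 * (m' : ℤ)) := by
      rw [hy, ← hm', mul_comm 2, zpow_mul, zpow_natCast]
      norm_cast
      ring
    obtain ⟨k, htN⟩ := exists_odd_exp hchar t ht0
    refine close k htN [vz gU (gS1 * gS2) 0 * vz gU (gS1 * gS2) 1 * (vz gU (gS1 * gS2) m')⁻¹]
      (by simp) ?_ ?_
    · intro x hx
      simp only [List.mem_cons, List.not_mem_nil, or_false] at hx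
      subst hx
      rw [map_mul, map_mul, map_inv, map_vz, map_vz, map_vz, lt2_U, lt2_h, vz_target, vz_target,
        vz_target, ← hm'2, mul_inv_eq_one, uu_mul]
      simp
    · intro R hb hext i j
      exact hcomm_two R m' (hb _ (by simp [rels2])) (hext _ (by simp)) i j

end Cfsg.Agent.Lib.PresSL2.TwoCore
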